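import Groth.Agent.Neron.K531.Defs
import Groth.Agent.AbVar.K530.PicZero
import Groth.Agent.S4276
import Groth.Agent.Etcore.DegZero
import Groth.Agent.Flat2G.ProperDim
import Groth.Agent.Pic13.H167.ChiGeom

/-!
# Euler characteristics and algebraically trivial classes (S15952, node DV1)
-/

set_option autoImplicit false

universe u

open CategoryTheory CategoryTheory.Limits AlgebraicGeometry TopologicalSpace Opposite
open Groth.Agent Groth.Agent.Grpsch.PicGrp Groth.Agent.Fdesc.LocGen K530.PicZero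

namespace K861.EulerMul

/-- Twisting with an algebraically trivial class does not change the Euler characteristic. -/
theorem euler_tensor {F : Type u} [Field F] {X : Scheme.{u}} (f : X ⟶ Spec (CommRingCat.of F)) [IsProper f]
    (d : ℕ) (hdim : topologicalKrullDim X ≤ d) {C N : X.Modules} (hC : PicF.IsInvertible C) (hc : FibZero f (mk C hC))
    (hN : PicF.IsInvertible N) :
    letI : X.Over (Spec (CommRingCat.of F)) := ⟨f⟩
    FGA.eulerCharLE F X (CohB1.tensorMod N C) d = FGA.eulerCharLE F X N d := by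
  letI : X.Over (Spec (CommRingCat.of F)) := ⟨f⟩
  let Ω := AlgebraicClosure F
  let σ : Spec (CommRingCat.of Ω) ⟶ Spec (CommRingCat.of F) := Spec.map (CommRingCat.ofHom (algebraMap F Ω))
  let Z := pullback f σ
  letI : Z.Over (Spec (CommRingCat.of Ω)) := ⟨pullback.snd f σ⟩
  have hprop : IsProper (Z ↘ Spec (CommRingCat.of Ω)) := inferInstanceAs (IsProper (pullback.snd f σ))
  have hcs : CompactSpace X := QuasiCompact.compactSpace_of_compactSpace f
  have hqs : QuasiSeparatedSpace X := quasiSeparatedSpace_of_quasiSeparated f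
  have hln : IsLocallyNoetherian Z := LocallyOfFiniteType.isLocallyNoetherian (Z ↘ Spec (CommRingCat.of Ω))
  have hpb : IsPullback (pullback.fst f σ) (Z ↘ Spec (CommRingCat.of Ω)) (X ↘ Spec (CommRingCat.of F)) σ :=
    IsPullback.of_hasPullback f σ
  have hd : topologicalKrullDim Z ≤ (d : ℕ) := by
    rw [Flat2G.ProperDim.topologicalKrullDim_field_point f (Field.toIsField Ω) (pullback.snd f σ)
      (pullback.fst f σ) σ (IsPullback.of_hasPullback f σ) (IsLocalRing.closedPoint Ω)]
    have h2 := Flat2G.ProperDim.topologicalKrullDim_field_point f (Field.toIsField F) f (𝟙 X) (𝟙 _)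
      (IsPullback.of_horiz_isIso ⟨by simp⟩) (σ (IsLocalRing.closedPoint Ω))
    exact h2.symm.le.trans hdim
  have hC' : PicF.IsInvertible ((Scheme.Modules.pullback (pullback.fst f σ)).obj C) := isInvertible_pullback _ hC
  have hN' : PicF.IsInvertible ((Scheme.Modules.pullback (pullback.fst f σ)).obj N) := isInvertible_pullback _ hN
  have hA : Pic13.IsAlgEquivZero Ω Z ((Scheme.Modules.pullback (pullback.fst f σ)).obj C) := by
    rw [Groth.Agent.Pic13.H138.AlgEquiv.isAlgEquivZero_iff_mem hC']
    exact hc Ω σ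
  have h1 := S4276.chi_pow_of_isAlgEquivZero Ω Z d hd _ hA ((Scheme.Modules.pullback (pullback.fst f σ)).obj N)
    (Etcore.DegZero.isCoh hN') 1
  rw [Fga.EulerIso.eulerCharLE_congr Ω (Ega2.Tens.mapTIso (Iso.refl _) (Ega2.TensPow.powOne _))] at h1
  rw [← Fga.EulerIso.eulerCharLE_congr Ω (@asIso _ _ _ _ (pullTensor (pullback.fst f σ) N C)
    (isIso_pullTensor (pullback.fst f σ) hN hC))] at h1
  have hT : PicF.IsInvertible (CohB1.tensorMod N C) := isInvertible_tensorMod hN hC
  rwa [Etcore.DegZero.eulerCharLE_pullback F X Ω Z _ σ hpb _ (Ega2.QCohLocal.isQCoh_of_isInvertible hT),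
    Etcore.DegZero.eulerCharLE_pullback F X Ω Z _ σ hpb _ (Ega2.QCohLocal.isQCoh_of_isInvertible hN)] at h1

/-- (DV1) -/
theorem euler_mul {F : Type u} [Field F] {X : Scheme.{u}} (f : X ⟶ Spec (CommRingCat.of F)) [IsProper f]
    (hdim : topologicalKrullDim X ≤ 1) (c : Pic X) (hc : FibZero f c) {M N : X.Modules} (hM : PicF.IsInvertible M)
    (hN : PicF.IsInvertible N) (h : mk M hM = c * mk N hN) :
    letI : X.Over (Spec (CommRingCat.of F)) := ⟨f⟩
    FGA.eulerCharLE F X M 1 = FGA.eulerCharLE F X N 1 := by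
  letI : X.Over (Spec (CommRingCat.of F)) := ⟨f⟩
  obtain ⟨C, hC, rfl⟩ := exists_mk c
  rw [mul_comm, mk_mul_mk, mk_eq_iff] at h
  obtain ⟨e⟩ := h
  rw [Fga.EulerIso.eulerCharLE_congr F e]
  exact euler_tensor f 1 hdim hC hc hN

end K861.EulerMul
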